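import Cfsg.Agent.H77.LFMain
import Cfsg.Agent.H390.Cocl
import Cfsg.Agent.H390.F2
import Cfsg.Agent.S2472
import Cfsg.Agent.S2474
import Cfsg.Agent.ClassicalGeometry.AutPSpCount
import Cfsg.Agent.Prune
set_option linter.all false
prune_inst 0x7f00000000000000000000000000000000000000000000000000000000000000000000000000000000000000000000000000000000000000000000000000000000000000000000000000000000000000003fffffffffffffffffffffffffffbeffbdffffffff
open scoped Cfsg.Agent.FastGrp

/-!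
# `LF` for `PSp_2n(q)` and `PΩ_2n+1(q)` (helper977, TEAM CYC, S3441)

Two probes: `n` even: the primes of the classes `2n` and `n - 1`; `n` odd: the classes `2n` and `n`.
-/

set_option autoImplicit false
set_option linter.unusedSectionVars false

namespace Cfsg.Agent.H977.CycSp

open Cfsg Cfsg.Agent.H390 Cfsg.Agent.H390.NonAdj Cfsg.Agent.H376.Cyc
open Cfsg.Agent.LieClassical.OrthCount Cfsg.Agent.LieClassical.OmegaReindex

universe v

/-- the facts about the prime graph of `L` -/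
structure Ft (L : Type*) [Group L] (q n : ℕ) : Prop where
  hq : 2 ≤ q
  card : ∀ r : ℕ, r.Prime → r ∣ Nat.card L → r ∣ q ∨ ∃ i, 1 ≤ i ∧ i ≤ n ∧ r ∣ q ^ (2 * i) - 1
  dvd : ∀ r e η : ℕ, r.Prime → r ≠ 2 → orderOf (q : ZMod r) = e → IsEta e η → 1 ≤ η → η ≤ n → r ∣ Nat.card L
  even : 2 ∣ Nat.card L
  two : ∀ e : ℕ, 3 ≤ e → ((e = 2 * n ∧ (Even n ∨ q % 4 ≠ 3)) ∨ (e = n ∧ Odd n ∧ q % 4 ≠ 1)) →
    ∀ r : ℕ, r.Prime → orderOf (q : ZMod r) = e → ∀ x : L, orderOf x ≠ 2 * r
  chr : ∀ r s e η : ℕ, r.Prime → r ≠ 2 → s.Prime → s ∣ q → r ≠ s → r ∣ Nat.card L → orderOf (q : ZMod r) = e →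
    IsEta e η → n - 1 < η → ∀ x : L, orderOf x ≠ r * s
  na : ∀ r s er es ηr ηs : ℕ, r.Prime → s.Prime → r ≠ 2 → s ≠ 2 → r ≠ s → ¬ r ∣ q → ¬ s ∣ q →
    orderOf (q : ZMod r) = er → orderOf (q : ZMod s) = es → IsEta er ηr → IsEta es ηs → ηs ≤ ηr → n < ηs + ηr →
    (¬ ∃ t : ℕ, Odd t ∧ er = es * t) → ∀ x : L, orderOf x ≠ r * s

theorem exists_eta {k : ℕ} : ∃ η, IsEta k η := by
  rcases Nat.even_or_odd k with h | h
  · obtain ⟨m, hm⟩ := h
    exact ⟨m, Or.inr ⟨⟨m, hm⟩, by omega⟩⟩
  · exact ⟨k, Or.inl ⟨h, rfl⟩⟩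

section

variable {L : Type*} [Group L] [Finite L] {q n : ℕ}

/-- an odd prime divisor of `|L|` not dividing `q` -/
theorem Ft.eta (h : Ft L q n) {r : ℕ} (hr : r.Prime) (hrL : r ∣ Nat.card L) (hrq : ¬ r ∣ q) :
    ∃ e η : ℕ, orderOf (q : ZMod r) = e ∧ IsEta e η ∧ 1 ≤ e ∧ 1 ≤ η ∧ η ≤ n := by
  have := Fact.mk hr
  rcases h.card r hr hrL with h1 | ⟨i, h1, h2, h3⟩
  · exact absurd h1 hrq
  · obtain ⟨η, hη⟩ := exists_eta (k := orderOf (q : ZMod r))
    have h4 : orderOf (q : ZMod r) ∣ 2 * i := by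
      rw [orderOf_dvd_iff_pow_eq_one]
      have h5 : ((q ^ (2 * i) - 1 : ℕ) : ZMod r) = 0 := (ZMod.natCast_eq_zero_iff _ _).2 h3
      rw [Nat.cast_sub (Nat.one_le_pow _ _ (by have := h.hq; omega))] at h5
      push_cast at h5
      exact sub_eq_zero.1 h5
    have h5 : 0 < orderOf (q : ZMod r) := by
      rcases Nat.eq_zero_or_pos (orderOf (q : ZMod r)) with h6 | h6
      · rw [h6] at h4
        have := Nat.eq_zero_of_zero_dvd h4
        omega
      · exact h6
    refine ⟨_, η, rfl, hη, h5, ?_, ?_⟩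
    · rcases hη with ⟨_, h6⟩ | ⟨_, h6⟩ <;> omega
    · rcases hη with ⟨h6, h7⟩ | ⟨h6, h7⟩
      · rw [h7]
        have h8 : orderOf (q : ZMod r) ∣ i := by
          refine (Nat.Coprime.dvd_mul_left ?_).1 h4
          rw [Nat.coprime_comm, Nat.coprime_two_left]
          exact h6
        exact (Nat.le_of_dvd (by omega) h8).trans h2
      · rw [← h7] at h4
        have := Nat.le_of_dvd (by omega) (Nat.dvd_of_mul_dvd_mul_left (by norm_num) h4)
        omega

theorem zs (hq : 2 ≤ q) {e : ℕ} (he : 3 ≤ e) (h6 : ¬ (q = 2 ∧ e = 6)) : ∃ r : ℕ, r.Prime ∧ orderOf (q : ZMod r) = e :=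
  Cfsg.Agent.Lib.Zsigmondy.exists_prime_orderOf hq (by omega) (by omega) h6

/-- the primitive primes of `e ≥ 3` -/
theorem ge_five {r e : ℕ} (hr : r.Prime) (he : orderOf (q : ZMod r) = e) (h3 : 3 ≤ e) : 5 ≤ r := by
  obtain ⟨h1, h2, h5, h6, h7⟩ := prim_cond hr he h3
  have : r ≠ 4 := by rintro rfl; revert hr; norm_num
  omega

/-- one probe of full weight -/
theorem Ft.probe (h : Ft L q n) {p0 e0 r : ℕ} (hp0 : p0.Prime) (he0 : orderOf (q : ZMod p0) = e0) (h3 : 3 ≤ e0)
    (hη0 : IsEta e0 n) (hn : 2 ≤ n) (hr : r.Prime) (hr2 : r ≠ 2) (hrL : r ∣ Nat.card L) (hrp : r ≠ p0)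
    (hk : ∀ k, orderOf (q : ZMod r) = k → ¬ ∃ t : ℕ, Odd t ∧ e0 = k * t) :
    p0 ∣ Nat.card L ∧ ¬ ∃ x : L, orderOf x = r * p0 := by
  obtain ⟨h1, h2, h5, -, -⟩ := prim_cond hp0 he0 h3
  have hd := h.dvd p0 e0 n hp0 h1 he0 hη0 (by omega) le_rfl
  refine ⟨hd, ?_⟩
  rintro ⟨x, hx⟩
  by_cases hrq : r ∣ q
  · exact h.chr p0 r e0 n hp0 h1 hr hrq (Ne.symm hrp) hd he0 hη0 (by omega) x (by rw [hx, mul_comm])
  · obtain ⟨e, η, g1, g2, g3, g4, g5⟩ := h.eta hr hrL hrq
    exact h.na p0 r e0 e n η hp0 hr h1 hr2 (Ne.symm hrp) h5 hrq he0 g1 hη0 g2 g5 (by omega) (hk e g1) x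
      (by rw [hx, mul_comm])

theorem Ft.lf (h : Ft L q n) (hn : 2 ≤ n) : LF L := by
  have hq := h.hq
  rcases Nat.even_or_odd n with hev | hod
  · -- `n` even
    obtain ⟨p0, hp0, he0⟩ := zs hq (e := 2 * n) (by omega) (by
      rintro ⟨-, h6⟩
      obtain ⟨c, hc⟩ := hev
      omega)
    have h5 := ge_five hp0 he0 (by omega)
    obtain ⟨a1, a2, a5, -, -⟩ := prim_cond hp0 he0 (by omega)
    have hη0 : IsEta (2 * n) n := eta_even n
    have hd := h.dvd p0 _ n hp0 a1 he0 hη0 (by omega) le_rfl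
    refine ⟨⟨p0, hp0, h5, hd, ?_⟩, fun r hr hr2 hrL => ?_⟩
    · rintro ⟨x, hx⟩
      exact h.two (2 * n) (by omega) (Or.inl ⟨rfl, Or.inl hev⟩) p0 hp0 he0 x hx
    · by_cases hk : ∃ t : ℕ, Odd t ∧ 2 * n = orderOf (q : ZMod r) * t
      · -- adjacent to the class `2n`
        obtain ⟨t, ht, hkt⟩ := hk
        have hrq : ¬ r ∣ q := by
          intro hrq
          have := Fact.mk hr
          rw [(ZMod.natCast_eq_zero_iff q r).2 hrq, orderOf_zero] at hkt
          omega
        obtain ⟨e, η, g1, g2, g3, g4, g5⟩ := h.eta hr hrL hrq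
        rw [g1] at hkt
        by_cases he2 : e = 2 * n
        · -- class `2n`
          subst he2
          refine ⟨2, Nat.prime_two, Ne.symm hr2, h.even, ?_⟩
          rintro ⟨x, hx⟩
          exact h.two (2 * n) (by omega) (Or.inl ⟨rfl, Or.inl hev⟩) r hr g1 x (by rw [hx, mul_comm])
        · -- `e` even, `e < 2n`
          have heven : Even e := by
            by_contra hno
            rw [Nat.not_even_iff_odd] at hno
            have : Odd (2 * n) := by rw [hkt]; exact hno.mul ht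
            rw [← Nat.not_even_iff_odd] at this
            exact this ⟨n, by omega⟩
          have hη : 2 * η = e := by
            rcases g2 with ⟨g6, -⟩ | ⟨-, g6⟩
            · rw [← Nat.not_even_iff_odd] at g6
              exact absurd heven g6
            · exact g6
          have hnt : n = η * t := by
            have : 2 * n = 2 * (η * t) := by rw [hkt, ← hη]; ring
            omega
          have ht1 : t ≠ 1 := by
            rintro rfl
            omega
          have ht3 : 3 ≤ t := by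
            obtain ⟨c, hc⟩ := ht
            omega
          have hηe : Even η := by
            by_contra hno
            rw [Nat.not_even_iff_odd] at hno
            have : Odd n := by rw [hnt]; exact hno.mul ht
            rw [← Nat.not_even_iff_odd] at this
            exact this hev
          have hη2 : 2 ≤ η := by
            obtain ⟨c, hc⟩ := hηe
            omega
          have hn6 : 3 * η ≤ n := by
            rw [hnt, mul_comm]
            exact Nat.mul_le_mul_left _ ht3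
          -- the second probe
          obtain ⟨t0, ht0, het0⟩ := zs hq (e := n - 1) (by omega) (by
            rintro ⟨-, h6⟩
            obtain ⟨c, hc⟩ := hev
            omega)
          obtain ⟨b1, b2, b5, -, -⟩ := prim_cond ht0 het0 (by omega)
          have hodd : Odd (n - 1) := by
            obtain ⟨c, hc⟩ := hev
            exact ⟨c - 1, by omega⟩
          have hηt : IsEta (n - 1) (n - 1) := Or.inl ⟨hodd, rfl⟩
          have hrt : t0 ≠ r := by
            rintro rfl
            rw [het0] at g1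
            obtain ⟨c, hc⟩ := heven
            obtain ⟨d, hd⟩ := hodd
            omega
          refine ⟨t0, ht0, hrt, h.dvd t0 _ (n - 1) ht0 b1 het0 hηt (by omega) (by omega), ?_⟩
          rintro ⟨x, hx⟩
          refine h.na t0 r (n - 1) e (n - 1) η ht0 hr b1 hr2 hrt b5 hrq het0 g1 hηt g2 (by omega) (by omega) ?_ x
            (by rw [hx, mul_comm])
          rintro ⟨c, -, hc⟩
          have : Even (n - 1) := by rw [hc]; exact heven.mul_right c
          rw [← Nat.not_even_iff_odd] at hodd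
          exact hodd this
      · -- not adjacent to the class `2n`
        have hrp : r ≠ p0 := by
          rintro rfl
          exact hk ⟨1, odd_one, by rw [he0, mul_one]⟩
        obtain ⟨c1, c2⟩ := h.probe hp0 he0 (by omega) hη0 hn hr hr2 hrL hrp (fun k hk' => by rw [← hk']; exact hk)
        exact ⟨p0, hp0, Ne.symm hrp, c1, c2⟩
  · -- `n` odd
    have hn3 : 3 ≤ n := by
      obtain ⟨c, hc⟩ := hod
      omega
    obtain ⟨p2, hp2, he2⟩ := zs hq (e := n) hn3 (by
      rintro ⟨-, h6⟩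
      obtain ⟨c, hc⟩ := hod
      omega)
    have h52 := ge_five hp2 he2 hn3
    obtain ⟨b1, b2, b5, -, -⟩ := prim_cond hp2 he2 hn3
    have hη2 : IsEta n n := Or.inl ⟨hod, rfl⟩
    have hd2 := h.dvd p2 _ n hp2 b1 he2 hη2 (by omega) le_rfl
    by_cases hsm : q = 2 ∧ n = 3
    · -- `Sp₆(2)`
      obtain ⟨rfl, rfl⟩ := hsm
      have h72 : ∀ r : ℕ, r.Prime → orderOf ((2 : ℕ) : ZMod r) = 3 → ∀ x : L, orderOf x ≠ 2 * r :=
        h.two 3 le_rfl (Or.inr ⟨rfl, hod, by norm_num⟩)
      refine ⟨⟨p2, hp2, h52, hd2, ?_⟩, fun r hr hr2 hrL => ?_⟩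
      · rintro ⟨x, hx⟩
        exact h72 p2 hp2 he2 x hx
      · by_cases hr3 : orderOf ((2 : ℕ) : ZMod r) = 3
        · refine ⟨2, Nat.prime_two, Ne.symm hr2, h.even, ?_⟩
          rintro ⟨x, hx⟩
          exact h72 r hr hr3 x (by rw [hx, mul_comm])
        · have hrp : r ≠ p2 := by
            rintro rfl
            exact hr3 he2
          by_cases hr1 : orderOf ((2 : ℕ) : ZMod r) = 1
          · exfalso
            have := Fact.mk hr
            rw [orderOf_eq_one_iff] at hr1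
            have h1 : ((1 : ℕ) : ZMod r) = 0 := by
              have h2 : ((2 : ℕ) : ZMod r) - 1 = 0 := by rw [hr1, sub_self]
              rw [← h2]
              push_cast
              norm_num
            rw [ZMod.natCast_eq_zero_iff] at h1
            exact hr.one_lt.ne' (Nat.dvd_one.1 h1)
          · obtain ⟨c1, c2⟩ := h.probe hp2 he2 le_rfl hη2 hn hr hr2 hrL hrp (by
              rintro k hk ⟨t, ht, hkt⟩
              rcases (Nat.dvd_prime Nat.prime_three).1 (Dvd.intro t hkt.symm) with h8 | h8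
              · exact hr1 (hk.trans h8)
              · exact hr3 (hk.trans h8))
            exact ⟨p2, hp2, Ne.symm hrp, c1, c2⟩
    · -- generic case
      obtain ⟨p1, hp1, he1⟩ := zs hq (e := 2 * n) (by omega) (by omega)
      have h51 := ge_five hp1 he1 (by omega)
      obtain ⟨a1, a2, a5, -, -⟩ := prim_cond hp1 he1 (by omega)
      have hη1 : IsEta (2 * n) n := eta_even n
      have hd1 := h.dvd p1 _ n hp1 a1 he1 hη1 (by omega) le_rfl
      refine ⟨?_, fun r hr hr2 hrL => ?_⟩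
      · by_cases h4 : q % 4 = 3
        · refine ⟨p2, hp2, h52, hd2, ?_⟩
          rintro ⟨x, hx⟩
          exact h.two n hn3 (Or.inr ⟨rfl, hod, by omega⟩) p2 hp2 he2 x hx
        · refine ⟨p1, hp1, h51, hd1, ?_⟩
          rintro ⟨x, hx⟩
          exact h.two (2 * n) (by omega) (Or.inl ⟨rfl, Or.inr h4⟩) p1 hp1 he1 x hx
      · by_cases hk : ∃ t : ℕ, Odd t ∧ 2 * n = orderOf (q : ZMod r) * t
        · obtain ⟨t, ht, hkt⟩ := hk
          have heven : Even (orderOf (q : ZMod r)) := by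
            by_contra hno
            rw [Nat.not_even_iff_odd] at hno
            have : Odd (2 * n) := by rw [hkt]; exact hno.mul ht
            rw [← Nat.not_even_iff_odd] at this
            exact this ⟨n, by omega⟩
          have hrp : r ≠ p2 := by
            rintro rfl
            rw [he2, ← Nat.not_odd_iff_even] at heven
            exact heven hod
          obtain ⟨c1, c2⟩ := h.probe hp2 he2 hn3 hη2 hn hr hr2 hrL hrp (by
            rintro k rfl ⟨c, hc, hkc⟩
            have : Even n := by rw [hkc]; exact heven.mul_right c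
            rw [← Nat.not_even_iff_odd] at hod
            exact hod this)
          exact ⟨p2, hp2, Ne.symm hrp, c1, c2⟩
        · have hrp : r ≠ p1 := by
            rintro rfl
            exact hk ⟨1, odd_one, by rw [he1, mul_one]⟩
          obtain ⟨c1, c2⟩ := h.probe hp1 he1 (by omega) hη1 hn hr hr2 hrL hrp (fun k hk' => by rw [← hk']; exact hk)
          exact ⟨p1, hp1, Ne.symm hrp, c1, c2⟩

end

variable {F : Type v} [Field F] [Fintype F]

theorem card_psp {n : ℕ} (hn : 1 ≤ n) : Nat.gcd 2 (Fintype.card F - 1) * Nat.card (PSp n F) =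
    Fintype.card F ^ (n ^ 2) * ∏ i ∈ Finset.range n, (Fintype.card F ^ (2 * (i + 1)) - 1) := by
  rw [← Cfsg.Agent.ClassicalGeometry.AutPSpCount.card_sp hn]
  exact Cfsg.Agent.S0245.result (F := F) rfl n

theorem four_dvd {q n : ℕ} (hq : Odd q) (hq3 : 3 ≤ q) (hn : 1 ≤ n) :
    4 ∣ q ^ (n ^ 2) * ∏ i ∈ Finset.range n, (q ^ (2 * (i + 1)) - 1) := by
  apply Dvd.dvd.mul_left
  have h1 : q ^ (2 * (0 + 1)) - 1 ∣ ∏ i ∈ Finset.range n, (q ^ (2 * (i + 1)) - 1) :=
    Finset.dvd_prod_of_mem _ (Finset.mem_range.2 hn)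
  refine Dvd.dvd.trans ?_ h1
  obtain ⟨k, rfl⟩ := hq
  have h2 : (2 * k + 1) ^ (2 * (0 + 1)) - 1 = 4 * (k * (k + 1)) := by
    have : (2 * k + 1) ^ (2 * (0 + 1)) = 4 * (k * (k + 1)) + 1 := by ring
    omega
  rw [h2]
  exact Dvd.intro _ rfl

theorem even_psp {n : ℕ} (hn : 1 ≤ n) : 2 ∣ Nat.card (PSp n F) := by
  have h := card_psp (F := F) hn
  have hq1 : 1 < Fintype.card F := Fintype.one_lt_card
  rcases Nat.even_or_odd (Fintype.card F) with he | ho
  · have h2 : Nat.gcd 2 (Fintype.card F - 1) = 1 := by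
      have : Odd (Fintype.card F - 1) := by
        obtain ⟨c, hc⟩ := he
        exact ⟨c - 1, by omega⟩
      exact (Nat.coprime_two_left.2 this)
    rw [h2, one_mul] at h
    rw [h]
    exact Dvd.dvd.mul_right (dvd_pow he.two_dvd (by positivity)) _
  · have h2 : Nat.gcd 2 (Fintype.card F - 1) = 2 := by
      apply Nat.gcd_eq_left
      obtain ⟨c, hc⟩ := ho
      exact ⟨c, by omega⟩
    rw [h2] at h
    have h3 : 4 ∣ 2 * Nat.card (PSp n F) := by
      rw [h]
      exact four_dvd ho (by obtain ⟨c, hc⟩ := ho; omega) hn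
    omega

theorem dvd_psp {n r e η : ℕ} (hn : 1 ≤ n) (hr : r.Prime) (hr2 : r ≠ 2) (he : orderOf ((Nat.card F : ℕ) : ZMod r) = e)
    (hη : IsEta e η) (h1 : 1 ≤ η) (hle : η ≤ n) : r ∣ Nat.card (PSp n F) := by
  have hq : Nat.card F = Fintype.card F := Nat.card_eq_fintype_card
  have hq1 : 1 < Nat.card F := Finite.one_lt_card
  have h := card_psp (F := F) hn
  have h2 : r ∣ Nat.gcd 2 (Fintype.card F - 1) * Nat.card (PSp n F) := by
    rw [h]
    apply Dvd.dvd.mul_left
    rw [← hq]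
    exact dvd_of_eta hq1.le he hη h1 hle
  rcases hr.dvd_mul.1 h2 with h3 | h3
  · exact absurd ((Nat.prime_dvd_prime_iff_eq hr Nat.prime_two).1 (h3.trans (Nat.gcd_dvd_left _ _))) hr2
  · exact h3

theorem ft_psp {n : ℕ} (hn : 2 ≤ n) (hn2 : n = 2 → 3 ≤ Fintype.card F) : Ft (PSp n F) (Nat.card F) n := by
  have hq : Nat.card F = Fintype.card F := Nat.card_eq_fintype_card
  have hq1 : 1 < Nat.card F := Finite.one_lt_card
  refine ⟨hq1, ?_, ?_, even_psp (by omega), ?_, ?_, ?_⟩
  · intro r hr hrL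
    have h1 : r ∣ Fintype.card F ^ (n ^ 2) * ∏ i ∈ Finset.range n, (Fintype.card F ^ (2 * (i + 1)) - 1) := by
      rw [← card_psp (F := F) (by omega)]
      exact Dvd.dvd.mul_left hrL _
    rw [hr.dvd_mul] at h1
    rcases h1 with h1 | h1
    · left
      rw [hq]
      exact hr.dvd_of_dvd_pow h1
    · right
      rw [hq]
      exact exists_of_dvd_prod hr h1
  · intro r e η hr hr2 he hη h1 hle
    exact dvd_psp (by omega) hr hr2 he hη h1 hle
  · intro e h3e he' r hr he x
    obtain ⟨hr2, hr3, hrq, -, -⟩ := prim_cond hr he h3e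
    have hrF := natCast_ne_zero (F := F) hr hrq
    have hη : (Odd e ∧ n = e) ∨ (Even e ∧ 2 * n = e) := by
      rcases he' with ⟨h, -⟩ | ⟨h, ho, -⟩
      · exact Or.inr ⟨⟨n, by omega⟩, h.symm⟩
      · exact Or.inl ⟨h ▸ ho, h.symm⟩
    by_cases h2 : (2 : F) = 0
    · intro hx
      have : CharP F 2 := CharTwo.of_one_ne_zero_of_two_eq_zero one_ne_zero h2
      have := Fact.mk Nat.prime_two
      have hrG : r ∣ Nat.card (PSp n F) :=
        ((Dvd.intro_left 2 rfl).trans (dvd_of_eq hx.symm)).trans (orderOf_dvd_natCard x)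
      rw [hq] at he
      have h1 := (Cfsg.Agent.S2472.result (F := F) 2 n hn hn2 r hr hr2 hr2 hrG e n he.symm hη).2 (by omega)
      exact h1 ⟨x, by rw [hx, mul_comm]⟩
    · have h4 : Nat.card F % 4 = 1 ∨ Nat.card F % 4 = 3 := by
        obtain ⟨t, ht⟩ := Cfsg.Agent.H150.odd_card_of_two_ne_zero h2
        rw [Nat.card_eq_fintype_card]
        omega
      rcases he' with ⟨h, h5⟩ | ⟨h, ho, h5⟩
      · subst h
        have h6 := pow_dvd_add_one (a := 1) hr hq1.le (by omega) he
          (by rw [pow_one]; exact dvd_of_orderOf hq1.le he dvd_rfl)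
        rw [pow_one] at h6
        refine Cfsg.Agent.H150.psp_far_plus h2 (by omega) hr hr2 hrF he h6 (pow_mod_four_of ?_) x
        rcases h5 with h5 | h5
        · exact h4.imp id fun h => ⟨h, h5⟩
        · exact Or.inl (h4.resolve_right h5)
      · subst h
        exact Cfsg.Agent.H150.psp_far_minus h2 (by omega) hr hr2 hrF he ho (h4.resolve_left h5) x
  · intro r s e η hr hr2 hs hsq hrs hrL he hη hlt x hx
    obtain ⟨p, hp⟩ := CharP.exists F
    have hpp : p.Prime := CharP.char_is_prime F p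
    have := Fact.mk hpp
    obtain ⟨f, hf⟩ := FiniteField.card F p
    have hsp : s = p := by
      rw [hq, hf.2] at hsq
      exact (Nat.prime_dvd_prime_iff_eq hs hpp).1 (hs.dvd_of_dvd_pow hsq)
    subst hsp
    rw [hq] at he
    refine (Cfsg.Agent.S2472.result (F := F) s n hn hn2 r hr hr2 hrs hrL e η he.symm ?_).2 hlt ⟨x, hx⟩
    rcases hη with ⟨h1, h2⟩ | ⟨h1, h2⟩
    · exact Or.inl ⟨h1, h2⟩
    · exact Or.inr ⟨h1, h2⟩
  · intro r s er es ηr ηs hr hs hr2 hs2 hrs hrq hsq her hes hηr hηs hle hsum hrat x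
    exact psp_nonadj hn hn2 hr hs hr2 hs2 hrs (natCast_ne_zero hr hrq) (natCast_ne_zero hs hsq) her hes hηr hηs hle hsum
      hrat x

/-- `PSp_2n(q)` -/
theorem lf_psp {n : ℕ} (hn : 2 ≤ n) (h : n = 2 → 3 ≤ Fintype.card F) : LF (PSp n F) :=
  (ft_psp hn h).lf hn

theorem LF.of_graph {L L' : Type*} [Group L] [Group L'] (hc : Nat.card L = Nat.card L')
    (hg : ∀ r s : ℕ, r.Prime → s.Prime → r ≠ s → ((∃ x : L, orderOf x = r * s) ↔ ∃ x : L', orderOf x = r * s))
    (h : LF L') : LF L := by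
  refine ⟨?_, fun r hr hr2 hrL => ?_⟩
  · obtain ⟨p, hp, h5, hd, hx⟩ := h.two
    exact ⟨p, hp, h5, by rw [hc]; exact hd, by rw [hg 2 p Nat.prime_two hp (by omega)]; exact hx⟩
  · obtain ⟨t, ht, htr, hd, hx⟩ := h.odd r hr hr2 (by rw [← hc]; exact hrL)
    exact ⟨t, ht, htr, by rw [hc]; exact hd, by rw [hg r t hr ht (Ne.symm htr)]; exact hx⟩

/-- `PΩ_2n+1(q)`, `q` odd -/
theorem lf_oodd {n : ℕ} (hn : 3 ≤ n) (ho : Odd (Fintype.card F)) : LF (POmega F (quadFormOdd n F)) := by
  refine LF.of_graph ?_ (fun r s hr hs hrs => Cfsg.Agent.S2474.result (F := F) ho n hn r s hr hs hrs)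
    (lf_psp (F := F) (n := n) (by omega) (by omega))
  have h1 := Cfsg.Agent.S0292.result (F := F) rfl ho n hn
  have h2 := card_psp (F := F) (n := n) (by omega)
  have h3 : Nat.gcd 2 (Fintype.card F - 1) = 2 := by
    apply Nat.gcd_eq_left
    obtain ⟨c, hc⟩ := ho
    exact ⟨c, by omega⟩
  rw [h3] at h2
  omega

end Cfsg.Agent.H977.CycSp
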